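import Mathlib.FieldTheory.PurelyInseparable.Basic
import Mathlib.FieldTheory.IsAlgClosed.Basic
import Mathlib.RingTheory.RamificationInertia.Ramification
import Mathlib.RingTheory.IsTensorProduct
import Mathlib.RingTheory.LocalRing.Length
import Mathlib.RingTheory.TensorProduct.Finite
import Mathlib.LinearAlgebra.Dimension.Constructions
import Mathlib.RingTheory.Artinian.Module

/-!
# Ramification of an extension of scalars to an algebraically closed field
-/

set_option autoImplicit false
set_option linter.style.haveILetI false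
set_option maxHeartbeats 800000

universe u

open TensorProduct IsLocalRing

namespace Groth.Agent.InsepRam17

/-- `E ⊗[S] K` is local with residue field `K` when `E / S` is purely inseparable. -/
theorem isLocalRing_tensor {S E K : Type u} [Field S] [Field E] [Field K] [Algebra S E] [Algebra S K]
    [IsPurelyInseparable S E] [Module.Finite S E] :
    IsLocalRing (E ⊗[S] K) ∧ ∀ z : E ⊗[S] K, IsNilpotent z ∨ IsUnit z := by
  obtain ⟨q, _⟩ := ExpChar.exists S
  haveI : Nontrivial (E ⊗[S] K) := inferInstance
  haveI : ExpChar (E ⊗[S] K) q :=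
    expChar_of_injective_ringHom (algebraMap S (E ⊗[S] K)).injective q
  have hpow : ∀ z : E ⊗[S] K, ∃ (n : ℕ) (c : K), z ^ q ^ n = 1 ⊗ₜ c := by
    intro z
    induction z using TensorProduct.induction_on with
    | zero => exact ⟨0, 0, by simp⟩
    | tmul a b =>
      obtain ⟨n, s, hs⟩ := (isPurelyInseparable_iff_pow_mem S q).1 inferInstance a
      refine ⟨n, algebraMap S K s * b ^ q ^ n, ?_⟩
      rw [Algebra.TensorProduct.tmul_pow, ← hs, Algebra.algebraMap_eq_smul_one, TensorProduct.smul_tmul,
        Algebra.smul_def]
    | add x y hx hy =>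
      obtain ⟨n, c, hc⟩ := hx
      obtain ⟨m, d, hd⟩ := hy
      refine ⟨n + m, c ^ q ^ m + d ^ q ^ n, ?_⟩
      rw [add_pow_expChar_pow, TensorProduct.tmul_add]
      have h1 : x ^ q ^ (n + m) = 1 ⊗ₜ (c ^ q ^ m) := by
        rw [pow_add, pow_mul, hc, Algebra.TensorProduct.tmul_pow, one_pow]
      have h2 : y ^ q ^ (n + m) = 1 ⊗ₜ (d ^ q ^ n) := by
        rw [add_comm, pow_add, pow_mul, hd, Algebra.TensorProduct.tmul_pow, one_pow]
      rw [h1, h2]
  have hdich : ∀ z : E ⊗[S] K, IsNilpotent z ∨ IsUnit z := fun z => by
    obtain ⟨n, c, hc⟩ := hpow z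
    have hq : q ^ n ≠ 0 := pow_ne_zero _ (expChar_pos S q).ne'
    rcases eq_or_ne c 0 with rfl | hne
    · exact Or.inl ⟨q ^ n, by rw [hc, TensorProduct.tmul_zero]⟩
    · refine Or.inr ((isUnit_pow_iff hq).1 ?_)
      rw [hc]
      exact (Ne.isUnit hne).map (Algebra.TensorProduct.includeRight : K →ₐ[S] E ⊗[S] K)
  refine ⟨IsLocalRing.of_nonunits_add fun a b ha hb hab => ?_, hdich⟩
  exact ((Commute.all a b).isNilpotent_add ((hdich a).resolve_right ha) ((hdich b).resolve_right hb)).not_isUnit hab

variable {k K C D : Type u} [Field k] [Field K] [IsAlgClosed K] [Algebra k K] [CommRing C] [CommRing D]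
  [Algebra k C] [Algebra k D] [Algebra C D] [Algebra K D] [IsScalarTower k C D] [IsScalarTower k K D]
  [Algebra.IsPushout k C K D]

/-- The ramification index over an algebraically closed extension of the base is the inseparable degree. -/
theorem ramificationIdx_bc (p : Ideal C) [p.IsMaximal] [Module.Finite k (C ⧸ p)] (q : Ideal D) [q.IsPrime]
    (hqp : q.under C = p) (τ : D →ₐ[K] K) (hτ : RingHom.ker τ = q) :
    letI := Ideal.Quotient.field p
    q.ramificationIdx C = Field.finInsepDegree k (C ⧸ p) := by
  classical
  letI := Ideal.Quotient.field p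
  let E := C ⧸ p
  let S := separableClosure k E
  haveI : Algebra.IsAlgebraic k E := Algebra.IsAlgebraic.of_finite _ _
  haveI : IsPurelyInseparable S E := separableClosure.isPurelyInseparable k E
  haveI : Module.Finite S E := Module.Finite.of_restrictScalars_finite k S E
  let Dq := Localization.AtPrime q
  let I := p.map (algebraMap C Dq)
  let Q := Dq ⧸ I
  have hI : I ≤ maximalIdeal Dq := Ideal.map_le_iff_le_comap.2 fun c hc => by
    have hc' : algebraMap C D c ∈ q := by rw [← hqp] at hc; exact hc
    show algebraMap C Dq c ∈ maximalIdeal Dq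
    rw [IsScalarTower.algebraMap_apply C D Dq, ← Localization.AtPrime.map_eq_maximalIdeal]
    exact Ideal.mem_map_of_mem _ hc'
  let mk : D →+* Q := (Ideal.Quotient.mk I).comp (algebraMap D Dq)
  haveI : Nontrivial Q := Ideal.Quotient.nontrivial_iff.2 fun h => (maximalIdeal.isMaximal Dq).ne_top (top_le_iff.1 (h ▸ hI))
  have hmkC : ∀ c ∈ p, mk (algebraMap C D c) = 0 := fun c hc => by
    show Ideal.Quotient.mk I (algebraMap D Dq (algebraMap C D c)) = 0
    rw [← IsScalarTower.algebraMap_apply C D Dq]
    exact Ideal.Quotient.eq_zero_iff_mem.2 (Ideal.mem_map_of_mem _ hc)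
  have hunit : ∀ d ∉ q, IsUnit (mk d) := fun d hd =>
    (IsLocalization.map_units Dq (⟨d, hd⟩ : q.primeCompl)).map (Ideal.Quotient.mk I)
  let εQ : E →+* Q := Ideal.Quotient.lift p (mk.comp (algebraMap C D)) hmkC
  let τE : E →+* K := Ideal.Quotient.lift p (τ.toRingHom.comp (algebraMap C D)) fun c hc => by
    have : algebraMap C D c ∈ RingHom.ker τ := by rw [hτ]; rw [← hqp] at hc; exact hc
    exact this
  letI algSK : Algebra S K := (τE.comp (algebraMap S E)).toAlgebra
  haveI : IsScalarTower k S K := IsScalarTower.of_algebraMap_eq fun a => by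
    show algebraMap k K a = τ (algebraMap C D (algebraMap k C a))
    rw [← IsScalarTower.algebraMap_apply k C D, IsScalarTower.algebraMap_apply k K D, AlgHom.commutes]
    rfl
  let R' := E ⊗[S] K
  obtain ⟨hloc, hdich⟩ := isLocalRing_tensor (S := S) (E := E) (K := K)
  haveI : IsLocalRing R' := hloc
  -- the map to the quotient of the local ring
  letI algSQ : Algebra S Q := (εQ.comp (algebraMap S E)).toAlgebra
  let iK : K →+* Q := mk.comp (algebraMap K D)
  have hsep : ∀ s : S, iK (algebraMap S K s) = algebraMap S Q s := fun s => by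
    obtain ⟨c, hc⟩ := Ideal.Quotient.mk_surjective (s : E)
    set σ := algebraMap S K s with hσ
    have hτc : τ (algebraMap C D c) = σ := by
      show _ = τE (s : E)
      rw [← hc]; rfl
    let f := minpoly k (s : E)
    have hf : Polynomial.Separable f := mem_separableClosure_iff.1 s.2
    letI algkQ : Algebra k Q := (mk.comp (algebraMap k D)).toAlgebra
    have hsQ : (f.map (algebraMap k Q)).eval (εQ (s : E)) = 0 := by
      rw [Polynomial.eval_map]
      have h0 : Polynomial.eval₂ (algebraMap k E) (s : E) f = 0 := minpoly.aeval k (s : E)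
      have := congrArg εQ h0
      rw [map_zero, Polynomial.hom_eval₂] at this
      rw [← this]
      congr 1
      exact RingHom.ext fun a => congrArg mk (IsScalarTower.algebraMap_apply k C D a)
    have hσQ : (f.map (algebraMap k Q)).eval (iK σ) = 0 := by
      rw [Polynomial.eval_map]
      have hσ0 : Polynomial.eval₂ (algebraMap k K) σ f = 0 := by
        have h0 : Polynomial.eval₂ (algebraMap k S) s f = 0 := by
          refine (algebraMap S E).injective ?_
          rw [map_zero, Polynomial.hom_eval₂, ← IsScalarTower.algebraMap_eq]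
          exact minpoly.aeval k (s : E)
        have := congrArg (algebraMap S K) h0
        rwa [map_zero, Polynomial.hom_eval₂, ← IsScalarTower.algebraMap_eq] at this
      have := congrArg iK hσ0
      rw [map_zero, Polynomial.hom_eval₂] at this
      rw [← this]
      congr 1
      exact RingHom.ext fun a => congrArg mk (IsScalarTower.algebraMap_apply k K D a)
    have hnu : IsUnit ((f.map (algebraMap k Q)).derivative.eval (iK σ)) := by
      have hσ0 : Polynomial.eval₂ (algebraMap k K) σ f = 0 := by
        have h0 : Polynomial.eval₂ (algebraMap k S) s f = 0 := by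
          refine (algebraMap S E).injective ?_
          rw [map_zero, Polynomial.hom_eval₂, ← IsScalarTower.algebraMap_eq]
          exact minpoly.aeval k (s : E)
        have := congrArg (algebraMap S K) h0
        rwa [map_zero, Polynomial.hom_eval₂, ← IsScalarTower.algebraMap_eq] at this
      have hne : Polynomial.eval₂ (algebraMap k K) σ f.derivative ≠ 0 :=
        hf.eval₂_derivative_ne_zero _ hσ0
      have h := (Ne.isUnit hne).map iK
      rw [Polynomial.hom_eval₂] at h
      rw [Polynomial.derivative_map, Polynomial.eval_map]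
      convert h using 2
      exact RingHom.ext fun a => (congrArg mk (IsScalarTower.algebraMap_apply k K D a))
    set z := iK σ
    set w := εQ (s : E)
    obtain ⟨r, hr⟩ := Polynomial.binomExpansion (f.map (algebraMap k Q)) z (w - z)
    rw [add_sub_cancel, hsQ, hσQ, zero_add] at hr
    have hu : IsUnit ((f.map (algebraMap k Q)).derivative.eval z + r * (w - z)) := by
      haveI : IsLocalRing Q := .of_surjective' (Ideal.Quotient.mk I) Ideal.Quotient.mk_surjective
      suffices hm : r * (w - z) ∈ maximalIdeal Q by
        by_contra h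
        exact (mem_maximalIdeal _).1 (by
          have := Ideal.sub_mem _ ((mem_maximalIdeal _).2 h : _ ∈ maximalIdeal Q) hm
          rwa [add_sub_cancel_right] at this) hnu
      refine Ideal.mul_mem_left _ _ ?_
      have hwz : w - z = mk (algebraMap C D c - algebraMap K D σ) := by
        rw [map_sub]
        congr 1
        show εQ (s : E) = _
        rw [← hc]; rfl
      have hmem : algebraMap C D c - algebraMap K D σ ∈ q := by
        rw [← hτ, RingHom.mem_ker, map_sub, hτc, AlgHom.commutes]
        exact sub_self σ
      rw [hwz, mem_maximalIdeal, mem_nonunits_iff]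
      intro hun
      have h2 : IsUnit (algebraMap D Dq (algebraMap C D c - algebraMap K D σ)) := by
        haveI : IsLocalHom (Ideal.Quotient.mk I) := IsLocalHom.of_surjective _ Ideal.Quotient.mk_surjective
        exact IsUnit.of_map (Ideal.Quotient.mk I) _ hun
      exact (IsLocalization.AtPrime.isUnit_to_map_iff Dq q _).1 h2 hmem
    have hzero : ((f.map (algebraMap k Q)).derivative.eval z + r * (w - z)) * (w - z) = 0 := by
      rw [add_mul, hr]; ring
    have := (hu.mul_right_eq_zero).1 hzero
    exact (sub_eq_zero.1 this).symm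
  let hR : R' →+* Q := (Algebra.TensorProduct.productMap (⟨εQ, fun _ => rfl⟩ : E →ₐ[S] Q)
    (⟨iK, hsep⟩ : K →ₐ[S] Q)).toRingHom
  have hR_tmul : ∀ a b, hR (a ⊗ₜ b) = εQ a * iK b := fun a b => Algebra.TensorProduct.productMap_apply_tmul _ _ a b
  -- the map back
  letI algkR : Algebra k R' := Algebra.compHom R' (algebraMap k S)
  let fC : C →ₐ[k] R' := ⟨(Algebra.TensorProduct.includeLeftRingHom).comp (Ideal.Quotient.mk p), fun a => by
    show (Ideal.Quotient.mk p (algebraMap k C a)) ⊗ₜ[S] (1 : K) = (algebraMap S E (algebraMap k S a)) ⊗ₜ[S] (1 : K)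
    rw [← IsScalarTower.algebraMap_apply k S E]
    rfl⟩
  let gK : K →ₐ[k] R' := ⟨(Algebra.TensorProduct.includeRight : K →ₐ[S] R').toRingHom, fun a => by
    show (Algebra.TensorProduct.includeRight : K →ₐ[S] R') (algebraMap k K a) = algebraMap S R' (algebraMap k S a)
    rw [IsScalarTower.algebraMap_apply k S K, AlgHom.commutes]
    rfl⟩
  let ψ : D →ₐ[k] R' := Algebra.pushoutDesc D fC gK fun _ _ => mul_comm _ _
  letI algkQ : Algebra k Q := (mk.comp (algebraMap k D)).toAlgebra
  have hψ : ∀ d, hR (ψ d) = mk d := by
    let a₁ : D →ₐ[k] Q := ⟨hR.comp ψ.toRingHom, fun a => by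
      show hR (ψ (algebraMap k D a)) = mk (algebraMap k D a)
      rw [IsScalarTower.algebraMap_apply k C D, Algebra.pushoutDesc_left]
      show hR (_ ⊗ₜ 1) = _
      rw [hR_tmul, map_one, mul_one]; rfl⟩
    let a₂ : D →ₐ[k] Q := ⟨mk, fun a => rfl⟩
    have : a₁ = a₂ := Algebra.IsPushout.algHom_ext (R := k) (S := C) (R' := K)
      (h₁ := AlgHom.ext fun b => by
        show hR (ψ (algebraMap K D b)) = mk (algebraMap K D b)
        rw [Algebra.pushoutDesc_right]
        show hR (1 ⊗ₜ b) = _
        rw [hR_tmul, map_one, one_mul]; rfl)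
      (h₂ := AlgHom.ext fun c => by
        show hR (ψ (algebraMap C D c)) = mk (algebraMap C D c)
        rw [Algebra.pushoutDesc_left]
        show hR (_ ⊗ₜ 1) = _
        rw [hR_tmul, map_one, mul_one]; rfl)
    exact fun d => DFunLike.congr_fun this d
  have hψu : ∀ d : q.primeCompl, IsUnit (ψ (d : D)) := fun d => by
    refine (hdich _).resolve_left fun hn => ?_
    have := hn.map hR
    rw [hψ] at this
    exact this.not_isUnit (hunit d.1 d.2)
  let ψq : Dq →+* R' := IsLocalization.lift (g := ψ.toRingHom) hψu
  have hψI : ∀ a ∈ I, ψq a = 0 := by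
    intro a ha
    have : I ≤ RingHom.ker ψq := Ideal.map_le_iff_le_comap.2 fun c hc => by
      show ψq (algebraMap C Dq c) = 0
      rw [IsScalarTower.algebraMap_apply C D Dq, IsLocalization.lift_eq]
      show ψ (algebraMap C D c) = 0
      rw [Algebra.pushoutDesc_left]
      show (Ideal.Quotient.mk p c) ⊗ₜ[S] (1 : K) = 0
      rw [Ideal.Quotient.eq_zero_iff_mem.2 hc, TensorProduct.zero_tmul]
    exact this ha
  let inv : Q →+* R' := Ideal.Quotient.lift I ψq hψI
  have h1 : hR.comp inv = RingHom.id Q := by
    refine Ideal.Quotient.ringHom_ext (IsLocalization.ringHom_ext q.primeCompl (RingHom.ext fun d => ?_))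
    show hR (ψq (algebraMap D Dq d)) = mk d
    rw [IsLocalization.lift_eq]
    exact hψ d
  have h2 : inv.comp hR = RingHom.id R' := RingHom.ext fun z => by
    induction z using TensorProduct.induction_on with
    | zero => simp
    | tmul a b =>
      obtain ⟨c, rfl⟩ := Ideal.Quotient.mk_surjective a
      show inv (hR ((Ideal.Quotient.mk p c) ⊗ₜ b)) = _
      rw [hR_tmul, map_mul]
      show ψq (algebraMap D Dq (algebraMap C D c)) * ψq (algebraMap D Dq (algebraMap K D b)) = _
      rw [IsLocalization.lift_eq, IsLocalization.lift_eq]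
      show ψ (algebraMap C D c) * ψ (algebraMap K D b) = _
      rw [Algebra.pushoutDesc_left, Algebra.pushoutDesc_right]
      show ((Ideal.Quotient.mk p c) ⊗ₜ[S] (1 : K)) * ((1 : E) ⊗ₜ[S] b) = _
      rw [Algebra.TensorProduct.tmul_mul_tmul, mul_one, one_mul]
      rfl
    | add x y hx hy => rw [map_add, hx, hy, map_add]
  -- lengths
  rw [Ideal.ramificationIdx_def, hqp]
  show (Module.length Dq Q).toNat = _
  rw [Module.length_eq_of_surjective (M := Q) (R := Q) (S := Dq) Ideal.Quotient.mk_surjective]
  let e : R' ≃+* Q := RingEquiv.ofRingHom hR inv h1 h2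
  have hlen : Module.length R' R' = Module.length Q Q := by
    letI : Algebra R' Q := hR.toAlgebra
    rw [← Module.length_eq_of_surjective (M := Q) (R := Q) (S := R') e.surjective]
    exact (LinearEquiv.ofBijective (Algebra.linearMap R' Q) e.bijective).length_eq
  rw [← hlen]
  letI algKR : Algebra K R' := Algebra.TensorProduct.rightAlgebra
  haveI : Module.Finite K R' := Module.Finite.of_surjective
    ((Algebra.TensorProduct.comm S K E).toLinearEquiv.toAddEquiv.toLinearEquiv (fun c x => by
      induction x using TensorProduct.induction_on with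
      | zero => simp
      | tmul a b =>
        show (Algebra.TensorProduct.comm S K E) ((c * a) ⊗ₜ b) = _
        rw [Algebra.TensorProduct.comm_tmul]
        show _ = ((1 : E) ⊗ₜ[S] c) * (b ⊗ₜ[S] a)
        rw [Algebra.TensorProduct.tmul_mul_tmul, one_mul]
      | add x y hx hy => rw [smul_add, map_add, map_add, smul_add, hx, hy]) : K ⊗[S] E ≃ₗ[K] R').toLinearMap
    (AddEquiv.surjective _)
  have hdim : Module.finrank K R' = Field.finInsepDegree k E := by
    refine (Algebra.finrank_eq_of_equiv_equiv (RingEquiv.refl K)
      (Algebra.TensorProduct.comm S E K).toRingEquiv ?_).trans (Module.finrank_baseChange)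
    ext a
    rfl
  haveI : IsLocalHom (algebraMap K R') := ⟨fun a ha => by
    by_contra h
    have : a = 0 := by simpa [isUnit_iff_ne_zero] using h
    rw [this, map_zero] at ha
    exact not_isUnit_zero ha⟩
  have hres : Module.length (ResidueField K) (ResidueField R') = 1 := by
    haveI : IsScalarTower K (ResidueField K) (ResidueField R') := inferInstance
    haveI : Module.Finite K (ResidueField R') :=
      Module.Finite.of_surjective (IsScalarTower.toAlgHom K R' (ResidueField R')).toLinearMap residue_surjective
    haveI : Algebra.IsIntegral K (ResidueField R') := Algebra.IsIntegral.of_finite _ _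
    have hb := IsAlgClosed.algebraMap_bijective_of_isIntegral (k := K) (K := ResidueField R')
    have hb' : Function.Surjective (algebraMap (ResidueField K) (ResidueField R')) := fun y => by
      obtain ⟨a, rfl⟩ := hb.2 y
      exact ⟨algebraMap K (ResidueField K) a, (IsScalarTower.algebraMap_apply K (ResidueField K) (ResidueField R') a).symm⟩
    have := (LinearEquiv.ofBijective (Algebra.linearMap (ResidueField K) (ResidueField R'))
      ⟨(algebraMap (ResidueField K) (ResidueField R')).injective, hb'⟩).length_eq
    rw [← this]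
    exact Module.length_eq_one _ _
  have h := IsLocalRing.length_restrictScalars K R' R'
  rw [hres, mul_one, Module.length_eq_finrank] at h
  rw [← h, ENat.toNat_coe]
  exact hdim

end Groth.Agent.InsepRam17
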